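import Groth.Agent.An92.LefX.PicInj

/-!
Thickenings seen in an open neighbourhood.
-/

set_option autoImplicit false
set_option backward.isDefEq.respectTransparency.types false
set_option linter.style.haveILetI false

noncomputable section

universe u

open CategoryTheory CategoryTheory.Limits AlgebraicGeometry Opposite TopologicalSpace

namespace Groth.Agent.An92.LefX

variable {X : Scheme.{u}} (𝓘 : X.IdealSheafData) (U : X.Opens) (hU : (𝓘.support : Set X) ⊆ (U : Set X))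

include hU in
/-- The thickenings of `U ∩ V(𝓘)` in `U` are those of `V(𝓘)`. -/
theorem exists_thickIso (m : ℕ) :
    ∃ σ : thick (𝓘.comap U.ι) m ≅ thick 𝓘 m, σ.hom ≫ kι 𝓘 m = kι (𝓘.comap U.ι) m ≫ U.ι := by
  let k := kι 𝓘 m
  have hr : Set.range k ⊆ Set.range U.ι := by
    rw [range_kι, Scheme.Opens.range_ι]
    exact hU
  let g : thick 𝓘 m ⟶ (U : Scheme.{u}) := IsOpenImmersion.lift U.ι k hr
  have hg : g ≫ U.ι = k := IsOpenImmersion.lift_fac _ _ _
  haveI : IsClosedImmersion (g ≫ U.ι) := by rw [hg]; infer_instance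
  haveI : IsClosedImmersion g := IsClosedImmersion.of_comp g U.ι
  have hpb : IsPullback g (𝟙 _) U.ι k := by
    refine ⟨⟨hg.trans (Category.id_comp _).symm⟩, ⟨PullbackCone.IsLimit.mk _ (fun s => s.snd)
      (fun s => (cancel_mono U.ι).1 ((Category.assoc _ _ _).trans ((congrArg (s.snd ≫ ·) hg).trans s.condition.symm)))
      (fun s => Category.comp_id _) (fun s q _ h2 => (Category.comp_id q).symm.trans h2)⟩⟩
  have hk : g.ker = (𝓘.comap U.ι) ^ (m + 1) := by
    rw [An92.FSch.comap_ker_of_isPullback hpb, Scheme.IdealSheafData.ker_subschemeι, An92.FSch.comap_pow]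
  let τ : g.ker.subscheme ≅ thick (𝓘.comap U.ι) m :=
    { hom := Scheme.IdealSheafData.inclusion hk.ge
      inv := Scheme.IdealSheafData.inclusion hk.le
      hom_inv_id := by rw [Scheme.IdealSheafData.inclusion_comp, Scheme.IdealSheafData.inclusion_id]
      inv_hom_id := by rw [Scheme.IdealSheafData.inclusion_comp, Scheme.IdealSheafData.inclusion_id] }
  refine ⟨(asIso g.toImage ≪≫ τ).symm, ?_⟩
  rw [Iso.symm_hom, Iso.inv_comp_eq]
  show k = (g.toImage ≫ Scheme.IdealSheafData.inclusion hk.ge) ≫ kι (𝓘.comap U.ι) m ≫ U.ι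
  rw [Category.assoc, ← Category.assoc (Scheme.IdealSheafData.inclusion hk.ge),
    Scheme.IdealSheafData.inclusion_subschemeι, ← Category.assoc]
  exact ((congrArg (· ≫ U.ι) g.toImage_imageι).trans hg).symm

include hU in
/-- The vanishing of cohomology of the graded pieces, on the thickenings in `U`. -/
theorem stepVanish_comap (p q : ℕ)
    (h : ∀ n, p ≤ n → Subsingleton (Coh.HH X (kernel (Lef.quotMap (Lef.pow_succ_le 𝓘 n))) q)) :
    StepVanish (𝓘.comap U.ι) p q := fun m hm => by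
  obtain ⟨σ', hσ'⟩ := exists_thickIso 𝓘 U hU (m + 1)
  obtain ⟨σ, hσ⟩ := exists_thickIso 𝓘 U hU m
  haveI : IsClosedImmersion (kι (𝓘.comap U.ι) (m + 1) ≫ U.ι) := by rw [← hσ']; infer_instance
  have hc : tι (𝓘.comap U.ι) m ≫ kι (𝓘.comap U.ι) (m + 1) ≫ U.ι = kι (𝓘.comap U.ι) m ≫ U.ι := by
    rw [← Category.assoc, tι_kι]
  refine subsingleton_hh_idealMod (tι (𝓘.comap U.ι) m) (kι (𝓘.comap U.ι) (m + 1) ≫ U.ι) _ hc q ?_
  obtain ⟨e⟩ := nonempty_kernel_pm (tι 𝓘 m) (tι_kι 𝓘 m) (tι (𝓘.comap U.ι) m) hc σ' hσ' σ hσ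
  let θ : Coh.HH X (kernel (pm (kι 𝓘 (m + 1)) (kι 𝓘 m) (tι 𝓘 m) (tι_kι 𝓘 m))) q ≃+ _ :=
    ((Abelian.extFunctorObj _ q).mapIso
      ((SheafOfModules.toSheaf X.ringCatSheaf).mapIso e)).addCommGroupIsoToAddEquiv
  have h' : Subsingleton (Coh.HH X (kernel (pm (kι 𝓘 (m + 1)) (kι 𝓘 m) (tι 𝓘 m) (tι_kι 𝓘 m))) q) := h m hm
  exact θ.symm.toEquiv.subsingleton

include hU in
/-- Under Lef and vanishing of `H¹`, restriction of invertible modules from a neighbourhood is injective. -/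
theorem iso_of_pullback_iso_nhd (hLef : Lef.LefCond X 𝓘) (p : ℕ)
    (h1 : ∀ n, p ≤ n → Subsingleton (Coh.HH X (kernel (Lef.quotMap (Lef.pow_succ_le 𝓘 n))) 1))
    (n : ℕ) (hn : p ≤ n) {L L' : (U : Scheme.{u}).Modules} (hL : PicF.IsInvertible L) (hL' : PicF.IsInvertible L')
    (e : (Scheme.Modules.pullback (kι (𝓘.comap U.ι) n)).obj L ≅ (Scheme.Modules.pullback (kι (𝓘.comap U.ι) n)).obj L') :
    Nonempty (L ≅ L') :=
  iso_of_pullback_iso _ (hLef U hU) n (fun m hm => stepVanish_comap 𝓘 U hU p 1 h1 m (hn.trans hm)) hL hL' e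

end Groth.Agent.An92.LefX
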