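import Groth.Agent.An92.LefX.Thick
import Groth.Agent.An92.Ample.Inverse
import Groth.Agent.Amp73.Local
import Groth.Agent.Amp73.Tensor
import Groth.Agent.QC70.ExtZero
import Groth.Agent.Mero90.TensorLift

/-!
The Lefschetz condition and vanishing of first cohomology make restriction of invertible modules to a
thickening injective.
-/

set_option autoImplicit false
set_option backward.isDefEq.respectTransparency.types false
set_option linter.style.haveILetI false

noncomputable section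

universe u

open CategoryTheory CategoryTheory.Limits AlgebraicGeometry Opposite TopologicalSpace

namespace Groth.Agent.An92.LefX

open Var76.LineBundle Amp73

variable {W : Scheme.{u}}

/-- The structure module is invertible. -/
theorem isInvertible_O (W : Scheme.{u}) : PicF.IsInvertible (Coh.structureModule W) :=
  Mero90.isInvertible_of_frames fun x => ⟨⊤, trivial, _, Amp73.isFrame_one ⊤⟩

/-- The product of two forms. -/
def mulPairing {L L' : W.Modules} (φ : L ⟶ Coh.structureModule W) (φ' : L' ⟶ Coh.structureModule W) :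
    Mero90.Pairing L' L (Coh.structureModule W) where
  b V a b := (show Γ(W, V) from φ'.app V a) * (show Γ(W, V) from φ.app V b)
  add_left V a a' b := (congrArg (fun z : Γ(W, V) => z * (show Γ(W, V) from φ.app V b))
    (map_add (φ'.app V).hom a a')).trans (add_mul (R := Γ(W, V)) _ _ _)
  add_right V a b b' := (congrArg (fun z : Γ(W, V) => (show Γ(W, V) from φ'.app V a) * z)
    (map_add (φ.app V).hom b b')).trans (mul_add (R := Γ(W, V)) _ _ _)
  smul_left V r a b := by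
    rw [Scheme.Modules.Hom.app_smul]
    exact mul_assoc (G := Γ(W, V)) r _ _
  smul_right V r a b := by
    rw [Scheme.Modules.Hom.app_smul]
    exact mul_left_comm (G := Γ(W, V)) _ r _
  nat V V' h a b := by
    rw [Mero90.app_res, Mero90.app_res]
    exact (map_mul (W.presheaf.map (homOfLE h).op).hom _ _).symm

/-- In frames the product of the forms is the product of their values, up to a unit. -/
theorem exists_frames_prod {L L' : W.Modules} (hL : PicF.IsInvertible L) (hL' : PicF.IsInvertible L')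
    (ν : CohB1.tensorMod L' L ≅ Coh.structureModule W) (φ : L ⟶ Coh.structureModule W)
    (φ' : L' ⟶ Coh.structureModule W) :
    ∃ s : Γ(W, ⊤), ∀ x : W, ∃ (V : W.Opens) (f : Γ(L, V)) (f' : Γ(L', V)) (c : Γ(W, V)), x ∈ V ∧
      IsFrame L V f ∧ IsFrame L' V f' ∧ IsUnit c ∧
      c * W.presheaf.map (homOfLE le_top).op s = (show Γ(W, V) from φ'.app V f') * (show Γ(W, V) from φ.app V f) := by
  let P := mulPairing φ φ'
  refine ⟨(ν.inv ≫ P.lift).app ⊤ ((1 : Γ(W, ⊤)) : Γ(Coh.structureModule W, ⊤)), fun x => ?_⟩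
  obtain ⟨V₁, hx₁, f, hf⟩ := Mero90.exists_frame' hL x
  obtain ⟨V₂, hx₂, f', hf'⟩ := Mero90.exists_frame' hL' x
  let V := V₁ ⊓ V₂
  have hF := (isFrame_app_iff ν.hom _).2
    (isFrame_tm (hf'.res (inf_le_right : V ≤ V₂)) (hf.res (inf_le_left : V ≤ V₁)))
  obtain ⟨a, ha⟩ := (hF _ le_rfl).2 ((1 : Γ(W, V)) : Γ(Coh.structureModule W, V))
  simp only [res_self] at ha
  let c : Γ(W, V) := ν.hom.app V (tm L' L (res L' inf_le_right f') (res L inf_le_left f))
  refine ⟨V, _, _, c, ⟨hx₁, hx₂⟩, hf.res inf_le_left, hf'.res inf_le_right,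
    IsUnit.of_mul_eq_one a ((mul_comm _ _).trans ha), ?_⟩
  have h1 : (ν.inv ≫ P.lift).app V (c : Γ(Coh.structureModule W, V)) =
      (P.lift).app V (tm L' L (res L' inf_le_right f') (res L inf_le_left f)) :=
    congrArg (P.lift.app V) (ConcreteCategory.congr_hom
      (congrArg (fun g => Scheme.Modules.Hom.app g V) ν.hom_inv_id) _)
  refine Eq.trans ?_ (h1.trans (P.lift_tmul V _ _))
  have hc : (c : Γ(Coh.structureModule W, V)) = c • res (Coh.structureModule W) le_top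
      ((1 : Γ(W, ⊤)) : Γ(Coh.structureModule W, ⊤)) :=
    (mul_one c).symm.trans (congrArg (c * ·) (map_one (W.presheaf.map (homOfLE le_top).op).hom).symm)
  exact ((congrArg ((ν.inv ≫ P.lift).app V) hc).trans ((Scheme.Modules.Hom.app_smul _ _ _).trans
    (congrArg (fun z : Γ(Coh.structureModule W, V) => c • z) (Mero90.app_res (ν.inv ≫ P.lift) le_top _)))).symm

theorem pm_inv {X Z Z' : Scheme.{u}} (k' : Z' ⟶ X) (k : Z ⟶ X) (t : Z ⟶ Z') (hk : t ≫ k' = k) {V : X.Opens}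
    (s : Γ(X, V)) (a : Γ(Z', k' ⁻¹ᵁ V)) (b : Γ(Z, k ⁻¹ᵁ V)) (ha : a * k'.app V s = 1) (hb : k.app V s * b = 1) :
    (show Γ(Z, k ⁻¹ᵁ V) from (pm k' k t hk).app V (show Γ(Coh.structureModule Z', k' ⁻¹ᵁ V) from a)) = b := by
  subst hk
  refine (pm_app' k' t V a).trans ?_
  refine left_inv_eq_right_inv (a := (t ≫ k').app V s) ?_ hb
  show t.app (k' ⁻¹ᵁ V) a * t.app (k' ⁻¹ᵁ V) (k'.app V s) = 1
  rw [← map_mul, ha, map_one]

theorem unitHom_comp {M N : W.Modules} (t : Γ(M, ⊤)) (f : M ⟶ N) :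
    QC70.unitHom t ≫ f = QC70.unitHom (f.app ⊤ t) := by
  refine Scheme.Modules.hom_ext _ _ fun V => ?_
  ext a
  exact (Scheme.Modules.Hom.app_smul f (show Γ(W, V) from a) _).trans
    (congrArg (fun z : Γ(N, V) => (show Γ(W, V) from a) • z) (Mero90.app_res f le_top t))

theorem comp_unitHom {M : W.Modules} (b : Coh.structureModule W ⟶ M) :
    b = QC70.unitHom (b.app ⊤ (QC70.toUnit (1 : Γ(W, ⊤)))) := by
  have h : QC70.unitHom (show Γ(Coh.structureModule W, ⊤) from QC70.toUnit (1 : Γ(W, ⊤))) = 𝟙 _ := by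
    refine Scheme.Modules.hom_ext _ _ fun V => ?_
    ext a
    exact (congrArg (fun z : Γ(W, V) => (show Γ(W, V) from a) * z)
      (map_one (W.presheaf.map (homOfLE le_top).op).hom)).trans (mul_one _)
  rw [← unitHom_comp, h]
  exact (Category.id_comp _).symm

/-- Sections compatible under the quotient maps come from a function. -/
theorem exists_section (𝓙 : W.IdealSheafData) (hO : Lef.HomToFormalBijective 𝓙 (Coh.structureModule W))
    (v : ∀ m, Γ(ClSub.quotMod (𝓙 ^ (m + 1)), ⊤))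
    (hv : ∀ m, (Lef.quotMap (I := 𝓙 ^ (m + 1 + 1)) (Lef.pow_succ_le 𝓙 m)).app ⊤ (v (m + 1)) = v m) :
    ∃ b : Γ(W, ⊤), ∀ m, (ClSub.toSubscheme (𝓙 ^ (m + 1))).app ⊤ (QC70.toUnit b) = v m := by
  let y : ∀ m : ℕ, Coh.structureModule W ⟶ ClSub.quotMod (𝓙 ^ (m + 1)) := fun m => QC70.unitHom (v m)
  have hy : Lef.IsFormalHom 𝓙 (Coh.structureModule W) y := fun m => by
    have h1 := unitHom_comp (W := W) (M := ClSub.quotMod (𝓙 ^ (m + 1 + 1))) (v (m + 1))
      (Lef.quotMap (I := 𝓙 ^ (m + 1 + 1)) (Lef.pow_succ_le 𝓙 m))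
    rw [hv m] at h1
    exact h1
  obtain ⟨b, hb⟩ := hO.2 y hy
  exact ⟨b.app ⊤ (QC70.toUnit (1 : Γ(W, ⊤))), fun m =>
    (congr(Scheme.Modules.Hom.app $(hb m) ⊤ (QC70.toUnit (1 : Γ(W, ⊤))))).trans (QC70.unitHom_app_one _)⟩

/-- Functions with equal images on all thickenings are equal. -/
theorem section_ext_formal (𝓙 : W.IdealSheafData) (hO : Lef.HomToFormalBijective 𝓙 (Coh.structureModule W))
    (a b : Γ(W, ⊤)) (h : ∀ m, (kι 𝓙 m).app ⊤ a = (kι 𝓙 m).app ⊤ b) : a = b := by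
  have h' := hO.1 (QC70.unitHom (QC70.toUnit a)) (QC70.unitHom (QC70.toUnit b)) fun m =>
    (unitHom_comp _ _).trans ((congrArg QC70.unitHom (h m)).trans (unitHom_comp _ _).symm)
  exact (QC70.unitHom_app_one (X := W) (QC70.toUnit a)).symm.trans
    ((congr(Scheme.Modules.Hom.app $h' ⊤ (QC70.toUnit (1 : Γ(W, ⊤))))).trans
      (QC70.unitHom_app_one (X := W) (QC70.toUnit b)))

/-- Under the Lefschetz condition a function invertible along the closed subscheme is invertible. -/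
theorem isUnit_of_germ (𝓙 : W.IdealSheafData)
    (hO : Lef.HomToFormalBijective 𝓙 (Coh.structureModule W)) (s : Γ(W, ⊤))
    (hs : ∀ y ∈ (𝓙.support : Set W), IsUnit (W.presheaf.germ ⊤ y trivial s)) : IsUnit s := by
  have hu : ∀ m, IsUnit ((kι 𝓙 m).app ⊤ s) := fun m =>
    isUnit_app_of_isUnit_germ _ _ fun z _ => hs _ (range_kι 𝓙 m ▸ ⟨z, rfl⟩)
  choose v hv using fun m => isUnit_iff_exists_inv.1 (hu m)
  obtain ⟨b, hb⟩ := exists_section 𝓙 hO v fun m =>
    pm_inv (kι 𝓙 (m + 1)) (kι 𝓙 m) (tι 𝓙 m) (tι_kι 𝓙 m) s (v (m + 1)) (v m)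
      ((mul_comm _ _).trans (hv (m + 1))) (hv m)
  refine IsUnit.of_mul_eq_one b (section_ext_formal 𝓙 hO _ _ fun m => ?_)
  have h1 : (kι 𝓙 m).app ⊤ b = v m := hb m
  rw [map_mul, map_one, h1, hv]

variable (𝓙 : W.IdealSheafData)

/-- A module trivial at level `n` has a form invertible along the closed subscheme. -/
theorem exists_form (hLef : ∀ D : W.Modules, FlatMod.IsFinLocFree D → Lef.HomToFormalBijective 𝓙 D)
    (n : ℕ) (h1 : StepVanish 𝓙 n 1) {L : W.Modules} (hL : PicF.IsInvertible L)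
    (e : (Scheme.Modules.pullback (kι 𝓙 n)).obj L ≅ Coh.structureModule (thick 𝓙 n)) :
    ∃ φ : L ⟶ Coh.structureModule W, ∀ (V : W.Opens) (f : Γ(L, V)), IsFrame L V f →
      IsUnit ((kι 𝓙 0).app V (φ.app V f)) := by
  obtain ⟨T, -⟩ := exists_trivSys 𝓙 n h1 hL e
  obtain ⟨y, hy, hy0⟩ := T.exists_formalHom
  obtain ⟨φ, hφ⟩ := (hLef L (Lift3.SmallExt.isFinLocFree_of_isInvertible hL)).2 y hy
  exact ⟨φ, fun V f hf => T.isUnit_frame 𝓙 hL φ ((hφ 0).trans hy0) hf⟩

/-- Restriction of invertible modules to a thickening has trivial kernel. -/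
theorem iso_structureModule_of_trivial (hLef : ∀ D : W.Modules, FlatMod.IsFinLocFree D →
      Lef.HomToFormalBijective 𝓙 D)
    (n : ℕ) (h1 : StepVanish 𝓙 n 1) {L : W.Modules} (hL : PicF.IsInvertible L)
    (e₀ : (Scheme.Modules.pullback (kι 𝓙 n)).obj L ≅ Coh.structureModule (thick 𝓙 n)) :
    Nonempty (L ≅ Coh.structureModule W) := by
  obtain ⟨L', hL', ⟨ν⟩⟩ := An92.InvMod.exists_inverse hL
  obtain ⟨φ, hφ⟩ := exists_form 𝓙 hLef n h1 hL e₀
  obtain ⟨φ', hφ'⟩ := exists_form 𝓙 hLef n h1 hL' (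
    (EGA73.tensUnitRight _).symm ≪≫ EGA73.tensIso (Iso.refl _) e₀.symm ≪≫
      (@asIso _ _ _ _ _ (isIso_pullTensHom (kι 𝓙 n) hL' hL)).symm ≪≫
      (Scheme.Modules.pullback (kι 𝓙 n)).mapIso ν ≪≫ PicLoc.pullbackStructureIso (kι 𝓙 n))
  obtain ⟨s, key⟩ := exists_frames_prod hL hL' ν φ φ'
  have hs : IsUnit s := isUnit_of_germ 𝓙 (hLef _ (Lift3.SmallExt.isFinLocFree_of_isInvertible (isInvertible_O W))) s
    fun y hy => by
      rw [← range_kι 𝓙 0] at hy
      obtain ⟨z, rfl⟩ := hy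
      obtain ⟨V, f, f', c, hxV, hf, hf', hc, he⟩ := key (kι 𝓙 0 z)
      have h3 := ((isUnit_germ_of_isUnit_app (kι 𝓙 0) _ (hφ' V f' hf') z hxV).mul
        (isUnit_germ_of_isUnit_app (kι 𝓙 0) _ (hφ V f hf) z hxV))
      rw [← map_mul, ← he, map_mul] at h3
      have h4 := (IsUnit.mul_iff.1 h3).2
      rwa [TopCat.Presheaf.germ_res_apply] at h4
  haveI : IsIso φ := isIso_of_frames φ fun x => by
    obtain ⟨V, f, f', c, hxV, hf, hf', hc, he⟩ := key x
    refine ⟨V, f, hxV, hf, ?_⟩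
    have h3 : IsUnit ((show Γ(W, V) from φ'.app V f') * (show Γ(W, V) from φ.app V f)) := he ▸ hc.mul (hs.map _)
    have h4 := (isFrame_smul_iff (isFrame_one V) (show Γ(W, V) from φ.app V f)).2 (IsUnit.mul_iff.1 h3).2
    exact (congrArg (IsFrame (Coh.structureModule W) V) (mul_one (show Γ(W, V) from φ.app V f))).mp h4
  exact ⟨asIso φ⟩

/-- Restriction of invertible modules to a thickening is injective. -/
theorem iso_of_pullback_iso (hLef : ∀ D : W.Modules, FlatMod.IsFinLocFree D → Lef.HomToFormalBijective 𝓙 D)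
    (n : ℕ) (h1 : StepVanish 𝓙 n 1) {L M : W.Modules} (hL : PicF.IsInvertible L) (hM : PicF.IsInvertible M)
    (e : (Scheme.Modules.pullback (kι 𝓙 n)).obj L ≅ (Scheme.Modules.pullback (kι 𝓙 n)).obj M) :
    Nonempty (L ≅ M) := by
  obtain ⟨M', hM', ⟨ν⟩⟩ := An92.InvMod.exists_inverse hM
  let i := kι 𝓙 n
  obtain ⟨t⟩ := iso_structureModule_of_trivial 𝓙 hLef n h1 (EGA73.isInvertible_tensorMod hM' hL)
    (@asIso _ _ _ _ _ (isIso_pullTensHom i hM' hL) ≪≫ EGA73.tensIso (Iso.refl _) e ≪≫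
      (@asIso _ _ _ _ _ (isIso_pullTensHom i hM' hM)).symm ≪≫ (Scheme.Modules.pullback i).mapIso ν ≪≫
      PicLoc.pullbackStructureIso i)
  exact ⟨(EGA73.tensUnitLeft L).symm ≪≫ EGA73.tensIso (ν.symm ≪≫ EGA73.tensComm M' M) (Iso.refl L) ≪≫
    EGA73.tensAssoc' M M' L ≪≫ EGA73.tensIso (Iso.refl M) t ≪≫ EGA73.tensUnitRight M⟩

end Groth.Agent.An92.LefX
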