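import Groth.Agent.An92.LefX.Nhd
import Groth.Agent.LimTop61.LocFreeStage
import Groth.Agent.Strict99.Basic
import Groth.Prelude.Def_LefX

/-!
Effective Lefschetz and vanishing of second cohomology: invertible modules on a thickening come from a neighbourhood.
-/

set_option autoImplicit false
set_option backward.isDefEq.respectTransparency.types false
set_option linter.style.haveILetI false

noncomputable section

universe u

open CategoryTheory CategoryTheory.Limits AlgebraicGeometry Opposite TopologicalSpace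

namespace Groth.Agent.An92.LefX

variable {X : Scheme.{u}} (𝓘 : X.IdealSheafData)

theorem stepVanish_of_hh (p q : ℕ)
    (h : ∀ n, p ≤ n → Subsingleton (Coh.HH X (kernel (Lef.quotMap (Lef.pow_succ_le 𝓘 n))) q)) :
    StepVanish 𝓘 p q := fun m hm =>
  subsingleton_hh_idealMod (tι 𝓘 m) (kι 𝓘 (m + 1)) (kι 𝓘 m) (tι_kι 𝓘 m) q (h m hm)

/-- The inclusion of a lower thickening. -/
abbrev lowι {a b : ℕ} (h : b ≤ a) : thick 𝓘 b ⟶ thick 𝓘 a :=
  Scheme.IdealSheafData.inclusion (inclusion_le 𝓘 a b h)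

theorem lowι_comp {a b c : ℕ} (h : b ≤ a) (h' : c ≤ b) : lowι 𝓘 h' ≫ lowι 𝓘 h = lowι 𝓘 (h'.trans h) :=
  Scheme.IdealSheafData.inclusion_comp _ _

/-- Composition of pullbacks with a prescribed composite. -/
def pullTwo {A B C : Scheme.{u}} {f : A ⟶ B} {g : B ⟶ C} {h : A ⟶ C} (e : f ≫ g = h) (M : C.Modules) :
    (Scheme.Modules.pullback f).obj ((Scheme.Modules.pullback g).obj M) ≅ (Scheme.Modules.pullback h).obj M :=
  (Scheme.Modules.pullbackComp f g).app M ≪≫ (Scheme.Modules.pullbackCongr e).app M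

/-- An invertible module on a thickening extends to the formal completion. -/
theorem exists_modSys (n : ℕ) (h2 : StepVanish 𝓘 n 2) {N : (thick 𝓘 n).Modules} (hN : PicF.IsInvertible N) :
    ∃ 𝔐 : FSch.ModSys (FSch.completionAlong X 𝓘), LefX.LevelwiseFinLocFree 𝔐 ∧ Nonempty (𝔐.F n ≅ N) := by
  let P := fun j : ℕ => {M : (thick 𝓘 (n + j)).Modules // PicF.IsInvertible M}
  choose next hnext hiso using fun (j : ℕ) (M : P j) =>
    exists_line_lift (tι 𝓘 (n + j)) (ker_inclusion_sq 𝓘 (n + j)) (h2 (n + j) (Nat.le_add_right n j)) M.2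
  let M : ∀ j, P j := fun j => Nat.rec (motive := P) ⟨N, hN⟩ (fun j M => ⟨next j M, hnext j M⟩) j
  have hM : ∀ j, M (j + 1) = ⟨next j (M j), hnext j (M j)⟩ := fun j => rfl
  have r : ∀ j, Nonempty ((Scheme.Modules.pullback (tι 𝓘 (n + j))).obj (M (j + 1)).1 ≅ (M j).1) := fun j => by
    rw [hM]; exact hiso j (M j)
  let F : ∀ m, (thick 𝓘 m).Modules := fun m =>
    (Scheme.Modules.pullback (lowι 𝓘 (Nat.le_add_left m n))).obj (M m).1
  let e : ∀ m, (Scheme.Modules.pullback (tι 𝓘 m)).obj (F (m + 1)) ≅ F m := fun m =>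
    pullTwo (show tι 𝓘 m ≫ lowι 𝓘 (Nat.le_add_left (m + 1) n) = lowι 𝓘 (show m ≤ n + m + 1 by omega) from
        Scheme.IdealSheafData.inclusion_comp _ _) _ ≪≫
      (pullTwo (show lowι 𝓘 (Nat.le_add_left m n) ≫ tι 𝓘 (n + m) = lowι 𝓘 (show m ≤ n + m + 1 by omega) from
        Scheme.IdealSheafData.inclusion_comp _ _) _).symm ≪≫
      (Scheme.Modules.pullback (lowι 𝓘 (Nat.le_add_left m n))).mapIso (r m).some
  refine ⟨⟨F, e⟩, fun m => Lift3.SmallExt.isFinLocFree_of_isInvertible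
    (Amp73.isInvertible_pullback (lowι 𝓘 (Nat.le_add_left m n)) (M m).2), ?_⟩
  have key : ∀ j, Nonempty ((Scheme.Modules.pullback (lowι 𝓘 (Nat.le_add_right n j))).obj (M j).1 ≅ N) := by
    intro j
    induction j with
    | zero =>
      exact ⟨(Scheme.Modules.pullbackCongr
        (show lowι 𝓘 (Nat.le_add_right n 0) = 𝟙 _ from Scheme.IdealSheafData.inclusion_id _)).app _ ≪≫
        (Scheme.Modules.pullbackId _).app _⟩
    | succ j ih =>
      obtain ⟨ψ⟩ := ih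
      exact ⟨(pullTwo (show lowι 𝓘 (Nat.le_add_right n j) ≫ tι 𝓘 (n + j) = lowι 𝓘 (Nat.le_add_right n (j + 1)) from
        Scheme.IdealSheafData.inclusion_comp _ _) _).symm ≪≫
        (Scheme.Modules.pullback (lowι 𝓘 (Nat.le_add_right n j))).mapIso (r j).some ≪≫ ψ⟩
  exact key n

theorem invertible_of_rank {Y : Scheme.{u}} {L : Y.Modules} (h : FlatMod.IsFinLocFreeOfRank 1 L) :
    PicF.IsInvertible L := fun x => by
  obtain ⟨U, hx, ⟨φ⟩⟩ := h x
  exact ⟨U, hx, ⟨φ ≪≫ coproductUniqueIso fun _ : Fin 1 => Coh.structureModule (↑U : Scheme.{u})⟩⟩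

/-- Under Leff and vanishing of `H²`, invertible modules on a thickening come from a neighbourhood. -/
theorem exists_nhd_line (hLeff : LefX.LeffCond X 𝓘) (p : ℕ)
    (h2 : ∀ n, p ≤ n → Subsingleton (Coh.HH X (kernel (Lef.quotMap (Lef.pow_succ_le 𝓘 n))) 2))
    (n : ℕ) (hn : p ≤ n) {N : (thick 𝓘 n).Modules} (hN : PicF.IsInvertible N) :
    ∃ (U : X.Opens) (L : (U : Scheme.{u}).Modules) (g : thick 𝓘 n ⟶ U), (𝓘.support : Set X) ⊆ (U : Set X) ∧
      g ≫ U.ι = kι 𝓘 n ∧ PicF.IsInvertible L ∧ Nonempty ((Scheme.Modules.pullback g).obj L ≅ N) := by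
  obtain ⟨𝔐, h𝔐, ⟨φ⟩⟩ := exists_modSys 𝓘 n (fun m hm => stepVanish_of_hh 𝓘 p 2 h2 m (hn.trans hm)) hN
  obtain ⟨U, E, hU, hE, ⟨θ⟩⟩ := hLeff.2 𝔐 h𝔐
  let θn : (Scheme.Modules.pullback (kι 𝓘 n)).obj ((Scheme.Modules.pushforward U.ι).obj E) ≅ N :=
    { hom := θ.hom.app n
      inv := θ.inv.app n
      hom_inv_id := congrArg (fun f => f.app n) θ.hom_inv_id
      inv_hom_id := congrArg (fun f => f.app n) θ.inv_hom_id } ≪≫ φ
  let g : thick 𝓘 n ⟶ (U : Scheme.{u}) := IsOpenImmersion.lift U.ι (kι 𝓘 n) (by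
    rw [range_kι, Scheme.Opens.range_ι]; exact hU)
  have hg : g ≫ U.ι = kι 𝓘 n := IsOpenImmersion.lift_fac _ _ _
  let c : (Scheme.Modules.pullback U.ι).obj ((Scheme.Modules.pushforward U.ι).obj E) ≅ E :=
    ((Scheme.Modules.restrictFunctorIsoPullback U.ι).app _).symm ≪≫
      asIso ((Scheme.Modules.restrictAdjunction U.ι).counit.app E)
  let ψ : (Scheme.Modules.pullback g).obj E ≅ N :=
    (Scheme.Modules.pullback g).mapIso c.symm ≪≫ pullTwo hg _ ≪≫ θn
  let V : (U : Scheme.{u}).Opens := ⟨{x | LimTop61.stalkRk E x = 1}, LimTop61.isOpen_stalkRk_eq hE 1⟩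
  have hNrk := (LimTop61.isFinLocFreeOfRank_iff.1
    (LimTop61.isFinLocFreeOfRank_of_iso ψ.symm (Mero90.isFinLocFreeOfRank_of_isInvertible hN))).2
  have hgV : ∀ z, g z ∈ V := fun z => (LimTop61.stalkRk_pullback g hE z).symm.trans (hNrk z)
  let W : X.Opens := U.ι ''ᵁ V
  have hWU : W ≤ U := U.ι_image_le V
  have hY : (𝓘.support : Set X) ⊆ (W : Set X) := by
    intro y hy
    rw [← range_kι 𝓘 n] at hy
    obtain ⟨z, rfl⟩ := hy
    exact ⟨g z, hgV z, congrArg (fun f : thick 𝓘 n ⟶ X => f z) hg⟩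
  let g' : thick 𝓘 n ⟶ (W : Scheme.{u}) := IsOpenImmersion.lift W.ι (kι 𝓘 n) (by
    rw [range_kι, Scheme.Opens.range_ι]; exact hY)
  have hg' : g' ≫ W.ι = kι 𝓘 n := IsOpenImmersion.lift_fac _ _ _
  have hgg : g' ≫ X.homOfLE hWU = g := (cancel_mono U.ι).1 (by rw [Category.assoc, Scheme.homOfLE_ι, hg', hg])
  refine ⟨W, (Scheme.Modules.pullback (X.homOfLE hWU)).obj E, g', hY, hg', invertible_of_rank
    (LimTop61.isFinLocFreeOfRank_iff.2 ⟨Strict99.isFinLocFree_pullback _ hE, fun w => ?_⟩),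
    ⟨pullTwo hgg E ≪≫ ψ⟩⟩
  rw [LimTop61.stalkRk_pullback _ hE]
  have hw : W.ι w ∈ W := w.2
  obtain ⟨v, hv, hvw⟩ := hw
  have : (X.homOfLE hWU) w = v := U.ι.isOpenEmbedding.injective
    ((congrArg (fun f : (W : Scheme.{u}) ⟶ X => f w) (X.homOfLE_ι hWU)).trans hvw.symm)
  rw [this]
  exact hv

end Groth.Agent.An92.LefX
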