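import Groth.Agent.An92.LefX.PicSurj
import Groth.Agent.ParaF26.Stalks
import Groth.Prelude.Def_Formal2

/-!
Invertible modules on the ambient scheme, on a neighbourhood and on a thickening, when the points outside the
neighbourhoods are parafactorial.
-/

set_option autoImplicit false
set_option backward.isDefEq.respectTransparency.types false
set_option linter.style.haveILetI false

noncomputable section

universe u

open CategoryTheory CategoryTheory.Limits AlgebraicGeometry Opposite TopologicalSpace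

namespace Groth.Agent.An92.LefX

variable {X : Scheme.{u}}

/-- Pull-back to the top open and back. -/
def fromTop (M : X.Modules) :
    (Scheme.Modules.pullback X.topIso.inv).obj ((Scheme.Modules.pullback (⊤ : X.Opens).ι).obj M) ≅ M :=
  pullTwo X.topIso.inv_hom_id M ≪≫ (Scheme.Modules.pullbackId X).app M

theorem topIso_inv_comp (U : X.Opens) : U.ι ≫ X.topIso.inv = X.homOfLE (le_top : U ≤ ⊤) :=
  (cancel_mono (⊤ : X.Opens).ι).1 (((Category.assoc _ _ _).trans
    ((congrArg (U.ι ≫ ·) X.topIso.inv_hom_id).trans (Category.comp_id _))).trans (X.homOfLE_ι _).symm)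

/-- If the points outside `U` are parafactorial, restriction of invertible modules to `U` is bijective. -/
theorem picPullback_bijective_of_stalks [IsLocallyNoetherian X] (U : X.Opens)
    (h : ∀ x : X, x ∉ U → ParaF.IsParafactorialLocalRing (X.presheaf.stalk x)) :
    Formal2.PicPullbackInjective U.ι ∧ Formal2.PicPullbackSurjective U.ι := by
  have hpair := (ParaF26.isParafactorialPair_iff_stalks ⟨(U : Set X)ᶜ, U.isOpen.isClosed_compl⟩).2 (fun y hy => h y hy)
  have key : ∀ (W : X.Opens) (hW : W ≤ ⊤), W = U → ParaF.InvRestrictEquiv (X.homOfLE hW) →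
      ParaF.InvRestrictEquiv (X.homOfLE (le_top : U ≤ ⊤)) := by
    rintro W hW rfl hh
    exact hh
  have hj : ParaF.InvRestrictEquiv (X.homOfLE (le_top : U ≤ ⊤)) :=
    key _ inf_le_left (Opens.ext (by simp)) (hpair ⊤)
  let j := X.homOfLE (le_top : U ≤ ⊤)
  constructor
  · intro L hL ⟨e⟩
    let L₁ := (Scheme.Modules.pullback (⊤ : X.Opens).ι).obj L
    let a : (Scheme.Modules.restrictFunctor j).obj L₁ ≅
        (Scheme.Modules.restrictFunctor j).obj (Coh.structureModule (⊤ : X.Opens)) :=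
      (Scheme.Modules.restrictFunctorIsoPullback j).app L₁ ≪≫ pullTwo (X.homOfLE_ι _) L ≪≫ e ≪≫
        (PicLoc.pullbackStructureIso j).symm ≪≫
        ((Scheme.Modules.restrictFunctorIsoPullback j).app _).symm
    have hL₁ : PicF.IsInvertible L₁ := Amp73.isInvertible_pullback _ hL
    have hO := isInvertible_O ((⊤ : X.Opens) : Scheme.{u})
    obtain ⟨φ, hφ⟩ := (hj.1 L₁ _ hL₁ hO).2 a.hom
    obtain ⟨ψ, hψ⟩ := (hj.1 _ L₁ hO hL₁).2 a.inv
    have b : L₁ ≅ Coh.structureModule (⊤ : X.Opens) :=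
      { hom := φ
        inv := ψ
        hom_inv_id := (hj.1 L₁ L₁ hL₁ hL₁).1 (((Scheme.Modules.restrictFunctor j).map_comp φ ψ).trans
          ((congrArg₂ (· ≫ ·) hφ hψ).trans (a.hom_inv_id.trans ((Scheme.Modules.restrictFunctor j).map_id _).symm)))
        inv_hom_id := (hj.1 _ _ hO hO).1 (((Scheme.Modules.restrictFunctor j).map_comp ψ φ).trans
          ((congrArg₂ (· ≫ ·) hψ hφ).trans (a.inv_hom_id.trans ((Scheme.Modules.restrictFunctor j).map_id _).symm))) }
    exact ⟨(fromTop L).symm ≪≫ (Scheme.Modules.pullback X.topIso.inv).mapIso b ≪≫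
      PicLoc.pullbackStructureIso X.topIso.inv⟩
  · intro L₀ hL₀
    obtain ⟨L₁, hL₁, ⟨c⟩⟩ := hj.2 L₀ hL₀
    exact ⟨(Scheme.Modules.pullback X.topIso.inv).obj L₁, Amp73.isInvertible_pullback _ hL₁,
      ⟨pullTwo (topIso_inv_comp U) L₁ ≪≫ ((Scheme.Modules.restrictFunctorIsoPullback j).app L₁).symm ≪≫ c⟩⟩

variable (𝓘 : X.IdealSheafData)

/-- Injectivity on a neighbourhood. -/
theorem iso_O_of_trivial_nhd (hLef : Lef.LefCond X 𝓘) (p : ℕ)
    (h1 : ∀ n, p ≤ n → Subsingleton (Coh.HH X (kernel (Lef.quotMap (Lef.pow_succ_le 𝓘 n))) 1))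
    (U : X.Opens) (hU : (𝓘.support : Set X) ⊆ (U : Set X))
    (n : ℕ) (hn : p ≤ n) {L : (U : Scheme.{u}).Modules} (hL : PicF.IsInvertible L)
    (e : (Scheme.Modules.pullback (kι (𝓘.comap U.ι) n)).obj L ≅ Coh.structureModule _) :
    Nonempty (L ≅ Coh.structureModule (U : Scheme.{u})) :=
  iso_structureModule_of_trivial (𝓘.comap U.ι) (hLef U hU) n
    (fun m hm => stepVanish_comap 𝓘 U hU p 1 h1 m (hn.trans hm)) hL e

/-- Restriction of invertible modules from `X` to a thickening is bijective. -/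
theorem picPullback_kι_bijective [IsLocallyNoetherian X] (hLeff : LefX.LeffCond X 𝓘) (p : ℕ)
    (h2 : ∀ n, p ≤ n → ∀ i : ℕ, (i = 1 ∨ i = 2) →
      Subsingleton (Coh.HH X (kernel (Lef.quotMap (Lef.pow_succ_le 𝓘 n))) i))
    (h3 : ∀ U : X.Opens, (𝓘.support : Set X) ⊆ (U : Set X) → ∀ x : X, x ∉ U →
      ParaF.IsParafactorialLocalRing (X.presheaf.stalk x))
    (n : ℕ) (hn : p ≤ n) :
    Formal2.PicPullbackInjective (kι 𝓘 n) ∧ Formal2.PicPullbackSurjective (kι 𝓘 n) := by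
  constructor
  · intro L hL ⟨e⟩
    have hT : (𝓘.support : Set X) ⊆ ((⊤ : X.Opens) : Set X) := fun x _ => trivial
    obtain ⟨σ, hσ⟩ := exists_thickIso 𝓘 ⊤ hT n
    obtain ⟨φ⟩ := iso_O_of_trivial_nhd 𝓘 hLeff.1 p (fun m hm => h2 m hm 1 (Or.inl rfl)) ⊤ hT n hn
      (Amp73.isInvertible_pullback (⊤ : X.Opens).ι hL)
      (pullTwo hσ.symm L ≪≫ ((Scheme.Modules.pullbackComp σ.hom (kι 𝓘 n)).app L).symm ≪≫
        (Scheme.Modules.pullback σ.hom).mapIso e ≪≫ PicLoc.pullbackStructureIso σ.hom)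
    exact ⟨(fromTop L).symm ≪≫ (Scheme.Modules.pullback X.topIso.inv).mapIso φ ≪≫
      PicLoc.pullbackStructureIso X.topIso.inv⟩
  · intro N hN
    obtain ⟨U, L, g, hU, hg, hL, ⟨ψ⟩⟩ :=
      exists_nhd_line 𝓘 hLeff p (fun m hm => h2 m hm 2 (Or.inr rfl)) n hn hN
    obtain ⟨L', hL', ⟨c⟩⟩ := (picPullback_bijective_of_stalks U (h3 U hU)).2 L hL
    exact ⟨L', hL', ⟨(pullTwo hg L').symm ≪≫ (Scheme.Modules.pullback g).mapIso c ≪≫ ψ⟩⟩

/-- Restriction of invertible modules from a neighbourhood to a thickening is bijective. -/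
theorem picPullback_kι_comap_bijective [IsLocallyNoetherian X] (hLeff : LefX.LeffCond X 𝓘) (p : ℕ)
    (h2 : ∀ n, p ≤ n → ∀ i : ℕ, (i = 1 ∨ i = 2) →
      Subsingleton (Coh.HH X (kernel (Lef.quotMap (Lef.pow_succ_le 𝓘 n))) i))
    (h3 : ∀ U : X.Opens, (𝓘.support : Set X) ⊆ (U : Set X) → ∀ x : X, x ∉ U →
      ParaF.IsParafactorialLocalRing (X.presheaf.stalk x))
    (U : X.Opens) (hU : (𝓘.support : Set X) ⊆ (U : Set X)) (n : ℕ) (hn : p ≤ n) :
    Formal2.PicPullbackInjective (kι (𝓘.comap U.ι) n) ∧ Formal2.PicPullbackSurjective (kι (𝓘.comap U.ι) n) := by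
  constructor
  · intro L hL ⟨e⟩
    exact iso_O_of_trivial_nhd 𝓘 hLeff.1 p (fun m hm => h2 m hm 1 (Or.inl rfl)) U hU n hn hL e
  · intro N hN
    obtain ⟨σ, hσ⟩ := exists_thickIso 𝓘 U hU n
    obtain ⟨L', hL', ⟨c⟩⟩ := (picPullback_kι_bijective 𝓘 hLeff p h2 h3 n hn).2 _
      (Amp73.isInvertible_pullback σ.inv hN)
    exact ⟨(Scheme.Modules.pullback U.ι).obj L', Amp73.isInvertible_pullback _ hL',
      ⟨pullTwo hσ.symm L' ≪≫ ((Scheme.Modules.pullbackComp σ.hom (kι 𝓘 n)).app L').symm ≪≫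
        (Scheme.Modules.pullback σ.hom).mapIso c ≪≫ pullTwo σ.hom_inv_id N ≪≫
        (Scheme.Modules.pullbackId _).app N⟩⟩

end Groth.Agent.An92.LefX
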