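import Groth.Agent.Coh69.AffinePush
import Groth.Agent.Omega57.Diag
import Groth.Agent.An92.FSch.Basic
import Groth.Agent.GSS45.ClosedHom
import Groth.Prelude.Def_Lef

/-!
Quotient maps between structure sheaves of closed subschemes; the ideals of successive thickenings.
-/

set_option autoImplicit false
set_option backward.isDefEq.respectTransparency.types false
set_option linter.style.haveILetI false

noncomputable section

universe u

open CategoryTheory CategoryTheory.Limits AlgebraicGeometry Opposite TopologicalSpace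

namespace Groth.Agent.An92.LefX

variable {X A B C : Scheme.{u}}

/-- The map `b_* O ⟶ c_* O` of a factorisation `c = a ≫ b`. -/
def pm (b : A ⟶ X) (c : C ⟶ X) (a : C ⟶ A) (h : a ≫ b = c) :
    (Scheme.Modules.pushforward b).obj (Coh.structureModule A) ⟶
      (Scheme.Modules.pushforward c).obj (Coh.structureModule C) :=
  (Scheme.Modules.pushforward b).map (ClSub.unitToPush a) ≫
    (Scheme.Modules.pushforwardComp a b).hom.app _ ≫ (Scheme.Modules.pushforwardCongr h).hom.app _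

theorem quotMap_eq {I J : X.IdealSheafData} (h : I ≤ J) :
    Lef.quotMap h = pm I.subschemeι J.subschemeι (Scheme.IdealSheafData.inclusion h)
      (Scheme.IdealSheafData.inclusion_subschemeι h) := rfl

theorem pm_app (b : A ⟶ X) (c : C ⟶ X) (a : C ⟶ A) (h : a ≫ b = c) (V : X.Opens) (s : Γ(A, b ⁻¹ᵁ V)) :
    (pm b c a h).app V (show Γ(Coh.structureModule A, b ⁻¹ᵁ V) from s) =
      C.presheaf.map (eqToHom (show c ⁻¹ᵁ V = a ⁻¹ᵁ (b ⁻¹ᵁ V) by subst h; rfl)).op (a.app (b ⁻¹ᵁ V) s) :=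
  rfl

theorem pm_app' (b : A ⟶ X) (a : C ⟶ A) (V : X.Opens) (s : Γ(A, b ⁻¹ᵁ V)) :
    (pm b (a ≫ b) a rfl).app V (show Γ(Coh.structureModule A, b ⁻¹ᵁ V) from s) = a.app (b ⁻¹ᵁ V) s :=
  (pm_app b _ a rfl V s).trans (ConcreteCategory.congr_hom (C.presheaf.map_id _) _)

theorem pm_comp {b : A ⟶ X} {b' : B ⟶ X} {c : C ⟶ X} {a₁ : B ⟶ A} {a₂ : C ⟶ B} (h₁ : a₁ ≫ b = b')
    (h₂ : a₂ ≫ b' = c) (h₃ : (a₂ ≫ a₁) ≫ b = c) : pm b b' a₁ h₁ ≫ pm b' c a₂ h₂ = pm b c (a₂ ≫ a₁) h₃ := by
  subst h₁; subst h₂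
  refine Scheme.Modules.hom_ext _ _ fun V => ?_
  ext s
  refine (congrArg ((pm (a₁ ≫ b) _ a₂ rfl).app V) (pm_app' b a₁ V s)).trans ((pm_app' (a₁ ≫ b) a₂ V _).trans ?_)
  refine Eq.trans ?_ (pm_app b _ (a₂ ≫ a₁) h₃ V s).symm
  exact (ConcreteCategory.congr_hom (C.presheaf.map_id _) _).symm

theorem pm_congr (b : A ⟶ X) [Mono b] (c : C ⟶ X) {a a' : C ⟶ A} (h : a ≫ b = c) (h' : a' ≫ b = c) :
    pm b c a h = pm b c a' h' := by
  obtain rfl : a = a' := (cancel_mono b).1 (h.trans h'.symm)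
  rfl

theorem isIso_pm (b : A ⟶ X) (c : C ⟶ X) (a : C ⟶ A) [IsIso a] (h : a ≫ b = c) : IsIso (pm b c a h) := by
  haveI : IsIso (ClSub.unitToPush a) := by
    rw [Scheme.Modules.Hom.isIso_iff_isIso_app]
    intro V
    exact (ConcreteCategory.isIso_iff_bijective _).2 (ConcreteCategory.bijective_of_isIso (a.app V))
  unfold pm
  infer_instance

/-- A morphism out of `b_* O` is unchanged by an identification of `A`. -/
theorem unitToPush_pm (b : A ⟶ X) (c : C ⟶ X) (a : C ⟶ A) (h : a ≫ b = c) :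
    ClSub.unitToPush b ≫ pm b c a h = ClSub.unitToPush c := by
  subst h
  refine Scheme.Modules.hom_ext _ _ fun V => ?_
  ext s
  exact pm_app' b a V _

/-- The ideal of a closed immersion is the kernel of its map on structure sheaves. -/
def idealModIso {D' D : Scheme.{u}} (t : D ⟶ D') [IsClosedImmersion t] :
    ClSub.idealMod t.ker ≅ kernel (ClSub.unitToPush t) :=
  haveI : IsIso (pm t.ker.subschemeι t t.toImage t.toImage_imageι) := isIso_pm _ _ _ _
  (kernelCompMono (ClSub.toSubscheme t.ker) (pm t.ker.subschemeι t t.toImage t.toImage_imageι)).symm ≪≫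
    kernel.mapIso _ _ (Iso.refl _) (Iso.refl _) (by
      rw [Iso.refl_hom, Iso.refl_hom, Category.id_comp, Category.comp_id]
      exact unitToPush_pm _ _ _ _)

/-- Cohomology of the ideal of a thickening, computed on an ambient scheme. -/
theorem subsingleton_hh_idealMod {D' D : Scheme.{u}} (t : D ⟶ D') [IsClosedImmersion t] (b : D' ⟶ X)
    [IsClosedImmersion b] (c : D ⟶ X) (h : t ≫ b = c) (q : ℕ)
    (h0 : Subsingleton (Coh.HH X (kernel (pm b c t h)) q)) :
    Subsingleton (Coh.HH D' (ClSub.idealMod t.ker) q) := by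
  haveI := GSS45.ClosedHom.preservesFiniteLimits_pushforward b
  haveI : (ClSub.idealMod t.ker).IsQuasicoherent := Omega57.isQuasicoherent_idealMod _
  obtain ⟨e⟩ := Coh69.nonempty_hh_push b (ClSub.idealMod t.ker) q
  let θ : (Scheme.Modules.pushforward b).obj (ClSub.idealMod t.ker) ≅ kernel (pm b c t h) :=
    (Scheme.Modules.pushforward b).mapIso (idealModIso t) ≪≫ PreservesKernel.iso _ _ ≪≫
      (kernelCompMono ((Scheme.Modules.pushforward b).map (ClSub.unitToPush t))
        ((Scheme.Modules.pushforwardComp t b).hom.app _ ≫ (Scheme.Modules.pushforwardCongr h).hom.app _)).symm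
  let θ' : Coh.HH X ((Coh.push b).obj (ClSub.idealMod t.ker)) q ≃+ Coh.HH X (kernel (pm b c t h)) q :=
    ((Abelian.extFunctorObj _ q).mapIso
      ((SheafOfModules.toSheaf X.ringCatSheaf).mapIso θ)).addCommGroupIsoToAddEquiv
  exact (e.trans θ').toEquiv.subsingleton

/-- Isomorphic factorisations have isomorphic kernels. -/
theorem nonempty_kernel_pm {A' C' : Scheme.{u}} {b : A ⟶ X} [Mono b] {c : C ⟶ X} (a : C ⟶ A) (h : a ≫ b = c)
    {b' : A' ⟶ X} {c' : C' ⟶ X} (a' : C' ⟶ A') (h' : a' ≫ b' = c') (σA : A' ≅ A) (hA : σA.hom ≫ b = b')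
    (σC : C' ≅ C) (hC : σC.hom ≫ c = c') :
    Nonempty (kernel (pm b c a h) ≅ kernel (pm b' c' a' h')) := by
  haveI := isIso_pm b b' σA.hom hA
  haveI := isIso_pm c c' σC.hom hC
  refine ⟨kernel.mapIso _ _ (asIso (pm b b' σA.hom hA)) (asIso (pm c c' σC.hom hC)) ?_⟩
  rw [asIso_hom, asIso_hom, pm_comp h hC (by rw [Category.assoc, h, hC]),
    pm_comp hA h' (by rw [Category.assoc, hA, h'])]
  exact pm_congr _ _ _ _

/-- The inclusion of successive thickenings is square zero. -/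
theorem ker_inclusion_sq (𝓙 : X.IdealSheafData) (n : ℕ) :
    (Scheme.IdealSheafData.inclusion (Lef.pow_succ_le 𝓙 n)).ker *
      (Scheme.IdealSheafData.inclusion (Lef.pow_succ_le 𝓙 n)).ker = ⊥ := by
  let t := Scheme.IdealSheafData.inclusion (Lef.pow_succ_le 𝓙 n)
  let j' := (𝓙 ^ (n + 2)).subschemeι
  have ht : t ≫ j' = (𝓙 ^ (n + 1)).subschemeι := Scheme.IdealSheafData.inclusion_subschemeι _
  have hpb : IsPullback (𝟙 (𝓙 ^ (n + 1)).subscheme) t (𝓙 ^ (n + 1)).subschemeι j' := by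
    refine ⟨⟨(Category.id_comp _).trans ht.symm⟩, ⟨PullbackCone.IsLimit.mk _ (fun s => s.fst) (fun s => Category.comp_id _)
      (fun s => (cancel_mono j').1 ((Category.assoc _ _ _).trans ((congrArg (s.fst ≫ ·) ht).trans s.condition)))
      (fun s m h1 _ => (Category.comp_id m).symm.trans h1)⟩⟩
  have hk : t.ker = (𝓙 ^ (n + 1)).comap j' := by
    rw [An92.FSch.comap_ker_of_isPullback hpb.flip, Scheme.IdealSheafData.ker_subschemeι]
  rw [hk, ← pow_two, ← An92.FSch.comap_pow, ← pow_mul]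
  refine le_bot_iff.1 (le_trans ?_ (An92.FSch.comap_ker_self j').le)
  rw [Scheme.IdealSheafData.ker_subschemeι]
  exact (Scheme.IdealSheafData.map_gc j').monotone_l (pow_le_pow_of_le_one bot_le le_top (show n + 2 ≤ (n + 1) * 2 by omega))

end Groth.Agent.An92.LefX
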