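import Groth.Agent.Desc59.Pic.SqZero
import Groth.Agent.Desc59.Pic.SqZeroSurj

/-!
Trivialisations and invertible modules along one square-zero step.
-/

set_option autoImplicit false
set_option backward.isDefEq.respectTransparency.types false
set_option linter.style.haveILetI false

noncomputable section

universe u

open CategoryTheory CategoryTheory.Limits AlgebraicGeometry Opposite TopologicalSpace

namespace Groth.Agent.An92.LefX

variable {D' D : Scheme.{u}} (t : D ⟶ D') [IsClosedImmersion t]

theorem ideal_sq (hI : t.ker * t.ker = ⊥) (U : D'.affineOpens) : t.ker.ideal U ^ 2 = ⊥ := by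
  have := congrArg (fun J : D'.IdealSheafData => J.ideal U) hI
  rw [pow_two]
  simpa using this

/-- A trivialisation lifts along a square-zero step whose ideal has no first cohomology. -/
theorem exists_iso_lift (hI : t.ker * t.ker = ⊥) (h1 : Subsingleton (Coh.HH D' (ClSub.idealMod t.ker) 1))
    {L : D'.Modules} (hL : PicF.IsInvertible L)
    (e : (Scheme.Modules.pullback t).obj L ≅ Coh.structureModule D) :
    ∃ u : L ≅ Coh.structureModule D',
      (Scheme.Modules.pullback t).map u.hom ≫ (PicLoc.pullbackStructureIso t).hom = e.hom := by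
  haveI : HasExt.{u} D.Modules := hasExt_of_enoughInjectives.{u} _
  have hi := ideal_sq t hI
  let O' := Coh.structureModule D'
  let e' := e ≪≫ (PicLoc.pullbackStructureIso t).symm
  have hO := Mero90.isInvertible_of_frames (L := O') fun x => ⟨⊤, trivial, _, Amp73.isFrame_one ⊤⟩
  have hLf := Lift3.SmallExt.isFinLocFree_of_isInvertible hL
  have hOf := Lift3.SmallExt.isFinLocFree_of_isInvertible hO
  let I₀ := (Scheme.Modules.pullback t).obj (ClSub.idealMod t.ker)
  have h2 : Subsingleton (Abelian.Ext.{u} (Coh.structureModule D) I₀ 1) :=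
    haveI := Desc59.Pic.SqZero.subsingleton_hh_pullback_ideal t hi h1
    (SiteMod.unitExtEquiv (J := Opens.grothendieckTopology D) D.ringCatSheaf I₀ 1).toEquiv.subsingleton
  let cO : I₀ ≅ Lift3.LinExt.coeff t O' :=
    (EGA73.tensUnitRight I₀).symm ≪≫ EGA73.tensIso (Iso.refl I₀) (PicLoc.pullbackStructureIso t).symm
  let cL : I₀ ≅ Lift3.LinExt.coeff t L := (EGA73.tensUnitRight I₀).symm ≪≫ EGA73.tensIso (Iso.refl I₀) e.symm
  obtain ⟨u, hu⟩ := Lift3.LinExt.exists_extension t hOf hi hLf
    (Lift3.LinExt.subsingleton_ext e.symm cO h2) e'.hom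
  obtain ⟨v, hv⟩ := Lift3.LinExt.exists_extension t hLf hi hOf
    (Lift3.LinExt.subsingleton_ext (PicLoc.pullbackStructureIso t).symm cL h2) e'.inv
  haveI := Lift3.LinExt.isIso_of_map_eq_id t hLf hi (u ≫ v) (by rw [Functor.map_comp, hu, hv, e'.hom_inv_id])
  haveI := Lift3.LinExt.isIso_of_map_eq_id t hOf hi (v ≫ u) (by rw [Functor.map_comp, hu, hv, e'.inv_hom_id])
  haveI : Mono u := mono_of_mono u v
  haveI : Epi u := epi_of_epi v u
  haveI : IsIso u := isIso_of_mono_of_epi u
  refine ⟨asIso u, ?_⟩
  rw [asIso_hom, hu]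
  simp [e']

/-- An invertible module lifts along a square-zero step whose ideal has no second cohomology. -/
theorem exists_line_lift (hI : t.ker * t.ker = ⊥) (h2 : Subsingleton (Coh.HH D' (ClSub.idealMod t.ker) 2))
    {N : D.Modules} (hN : PicF.IsInvertible N) :
    ∃ N' : D'.Modules, PicF.IsInvertible N' ∧ Nonempty ((Scheme.Modules.pullback t).obj N' ≅ N) := by
  let a := t.toImage
  haveI : IsIso a := inferInstance
  obtain ⟨N', hN', ⟨e⟩⟩ := Desc59.Pic.exists_invertible_pullback_iso t.ker hI h2
    (Amp73.isInvertible_pullback (inv a) hN)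
  exact ⟨N', hN', ⟨((Scheme.Modules.pullbackCongr t.toImage_imageι).app N').symm ≪≫
    ((Scheme.Modules.pullbackComp a t.ker.subschemeι).app N').symm ≪≫ (Scheme.Modules.pullback a).mapIso e ≪≫
    (Scheme.Modules.pullbackComp a (inv a)).app N ≪≫ (Scheme.Modules.pullbackCongr (IsIso.hom_inv_id a)).app N ≪≫
    (Scheme.Modules.pullbackId D).app N⟩⟩

end Groth.Agent.An92.LefX
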