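import Groth.Agent.An92.LefX.Quot
import Groth.Agent.An92.LefX.Step
import Groth.Agent.Amp73.Gen
import Groth.Agent.Props58.PullTensor
import Groth.Agent.Csa25.SecTransport
import Groth.Agent.RegImm10.BundleBlow

/-!
Systems of thickenings: trivialisations give morphisms to the quotients.
-/

set_option autoImplicit false
set_option backward.isDefEq.respectTransparency.types false
set_option linter.style.haveILetI false

noncomputable section

universe u

open CategoryTheory CategoryTheory.Limits AlgebraicGeometry Opposite TopologicalSpace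

namespace Groth.Agent.An92.LefX

open Var76.LineBundle Amp73

variable {W : Scheme.{u}} (𝓙 : W.IdealSheafData)

/-- The thickenings. -/
abbrev thick (m : ℕ) : Scheme.{u} := (𝓙 ^ (m + 1)).subscheme

/-- The inclusion of a thickening. -/
abbrev kι (m : ℕ) : thick 𝓙 m ⟶ W := (𝓙 ^ (m + 1)).subschemeι

/-- The steps. -/
abbrev tι (m : ℕ) : thick 𝓙 m ⟶ thick 𝓙 (m + 1) := Scheme.IdealSheafData.inclusion (Lef.pow_succ_le 𝓙 m)

theorem tι_kι (m : ℕ) : tι 𝓙 m ≫ kι 𝓙 (m + 1) = kι 𝓙 m := Scheme.IdealSheafData.inclusion_subschemeι _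

instance isClosedImmersion_tι (m : ℕ) : IsClosedImmersion (tι 𝓙 m) := by
  haveI : IsClosedImmersion (tι 𝓙 m ≫ kι 𝓙 (m + 1)) := by
    rw [tι_kι]
    infer_instance
  exact IsClosedImmersion.of_comp (tι 𝓙 m) (kι 𝓙 (m + 1))

theorem range_kι (m : ℕ) : Set.range (kι 𝓙 m) = (𝓙.support : Set W) := by
  rw [Scheme.IdealSheafData.range_subschemeι, Scheme.IdealSheafData.support_pow_succ]

/-- Vanishing of the cohomology of the successive ideals. -/
def StepVanish (p q : ℕ) : Prop :=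
  ∀ m, p ≤ m → Subsingleton (Coh.HH (thick 𝓙 (m + 1)) (ClSub.idealMod (tι 𝓙 m).ker) q)

section Adjunct

variable {X Z Z' : Scheme.{u}}

/-- Compatible trivialisations give compatible morphisms. -/
theorem homEquiv_pm (k' : Z' ⟶ X) (t : Z ⟶ Z') {L : X.Modules}
    (u : (Scheme.Modules.pullback k').obj L ⟶ Coh.structureModule Z')
    (e : (Scheme.Modules.pullback (t ≫ k')).obj L ⟶ Coh.structureModule Z)
    (h : (Scheme.Modules.pullback t).map u ≫ (PicLoc.pullbackStructureIso t).hom =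
      (Scheme.Modules.pullbackComp t k').hom.app L ≫ e) :
    (Scheme.Modules.pullbackPushforwardAdjunction k').homEquiv _ _ u ≫ pm k' (t ≫ k') t rfl =
      (Scheme.Modules.pullbackPushforwardAdjunction (t ≫ k')).homEquiv _ _ e := by
  refine Scheme.Modules.hom_ext _ _ fun V => ?_
  ext x
  rw [Adjunction.homEquiv_unit, Adjunction.homEquiv_unit]
  refine (pm_app' k' t V (u.app (k' ⁻¹ᵁ V) (pullS k' L V x))).trans ?_
  have h1 : ((Scheme.Modules.pullback t).map u ≫ (PicLoc.pullbackStructureIso t).hom).app (t ⁻¹ᵁ (k' ⁻¹ᵁ V))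
      (pullS t _ (k' ⁻¹ᵁ V) (pullS k' L V x)) = t.app (k' ⁻¹ᵁ V) (u.app (k' ⁻¹ᵁ V) (pullS k' L V x)) :=
    (congrArg ((PicLoc.pullbackStructureIso t).hom.app (t ⁻¹ᵁ (k' ⁻¹ᵁ V))) (map_app_pullS t u _ _)).trans
      (RegImm10.BundleBlow.pullbackStructureIso_pullS' t _ _)
  have h2 : ((Scheme.Modules.pullbackComp t k').hom.app L).app (t ⁻¹ᵁ (k' ⁻¹ᵁ V))
      (pullS t _ (k' ⁻¹ᵁ V) (pullS k' L V x)) = pullS (t ≫ k') L V x :=
    (congrArg _ (Props58.PullTensor.pullS_comp t k' L V x).symm).trans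
      (ConcreteCategory.congr_hom (congrArg (fun g => Scheme.Modules.Hom.app g (t ⁻¹ᵁ (k' ⁻¹ᵁ V)))
        ((Scheme.Modules.pullbackComp t k').inv_hom_id_app L)) _)
  rw [h] at h1
  exact h1.symm.trans (congrArg (e.app (t ⁻¹ᵁ (k' ⁻¹ᵁ V))) h2)

theorem homEquiv_pm' (k' : Z' ⟶ X) (k : Z ⟶ X) (t : Z ⟶ Z') (hk : t ≫ k' = k) {L : X.Modules}
    (u : (Scheme.Modules.pullback k').obj L ⟶ Coh.structureModule Z')
    (e : (Scheme.Modules.pullback k).obj L ⟶ Coh.structureModule Z)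
    (h : (Scheme.Modules.pullback t).map u ≫ (PicLoc.pullbackStructureIso t).hom =
      (Scheme.Modules.pullbackComp t k').hom.app L ≫ (Scheme.Modules.pullbackCongr hk).hom.app L ≫ e) :
    (Scheme.Modules.pullbackPushforwardAdjunction k').homEquiv _ _ u ≫ pm k' k t hk =
      (Scheme.Modules.pullbackPushforwardAdjunction k).homEquiv _ _ e := by
  subst hk
  exact homEquiv_pm k' t u e (h.trans (congrArg (_ ≫ ·) (Category.id_comp _)))

theorem isUnit_germ_of_isUnit_app (k : Z ⟶ X) {V : X.Opens} (c : Γ(X, V))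
    (hc : IsUnit (k.app V c)) (z : Z) (hz : k z ∈ V) : IsUnit (X.presheaf.germ V (k z) hz c) :=
  (isUnit_map_iff (k.stalkMap z).hom _).1 (by
    rw [Scheme.Hom.germ_stalkMap_apply k V z hz c]
    exact hc.map _)

theorem isUnit_app_of_isUnit_germ (k : Z ⟶ X) {V : X.Opens} (c : Γ(X, V))
    (hc : ∀ (z : Z) (hz : k z ∈ V), IsUnit (X.presheaf.germ V (k z) hz c)) : IsUnit (k.app V c) :=
  Z.toRingedSpace.isUnit_of_isUnit_germ _ _ fun z hz => by
    have := (hc z hz).map (k.stalkMap z).hom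
    rwa [Scheme.Hom.germ_stalkMap_apply k V z hz c] at this

end Adjunct

/-- Trivialisations at all levels from `n` on, compatible under restriction. -/
structure TrivSys (n : ℕ) (L : W.Modules) where
  z : ∀ j, (Scheme.Modules.pullback (kι 𝓙 (n + j))).obj L ≅ Coh.structureModule (thick 𝓙 (n + j))
  comm : ∀ j, (Scheme.Modules.pullback (tι 𝓙 (n + j))).map (z (j + 1)).hom ≫
      (PicLoc.pullbackStructureIso (tι 𝓙 (n + j))).hom =
    (Scheme.Modules.pullbackComp (tι 𝓙 (n + j)) (kι 𝓙 (n + j + 1))).hom.app L ≫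
      (Scheme.Modules.pullbackCongr (tι_kι 𝓙 (n + j))).hom.app L ≫ (z j).hom

/-- A trivialisation at level `n` extends to all higher levels. -/
theorem exists_trivSys (n : ℕ) (h1 : StepVanish 𝓙 n 1) {L : W.Modules} (hL : PicF.IsInvertible L)
    (d : (Scheme.Modules.pullback (kι 𝓙 n)).obj L ≅ Coh.structureModule (thick 𝓙 n)) :
    ∃ T : TrivSys 𝓙 n L, T.z 0 = d := by
  choose lift hlift using fun (j : ℕ)
      (d : (Scheme.Modules.pullback (kι 𝓙 (n + j))).obj L ≅ Coh.structureModule (thick 𝓙 (n + j))) =>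
    exists_iso_lift (tι 𝓙 (n + j)) (ker_inclusion_sq 𝓙 (n + j)) (h1 (n + j) (Nat.le_add_right n j))
      (isInvertible_pullback (kι 𝓙 (n + j + 1)) hL)
      ((Scheme.Modules.pullbackComp (tι 𝓙 (n + j)) (kι 𝓙 (n + j + 1))).app L ≪≫
        (Scheme.Modules.pullbackCongr (tι_kι 𝓙 (n + j))).app L ≪≫ d)
  let z : ∀ j, (Scheme.Modules.pullback (kι 𝓙 (n + j))).obj L ≅ Coh.structureModule (thick 𝓙 (n + j)) :=
    fun j => Nat.rec (motive := fun j => (Scheme.Modules.pullback (kι 𝓙 (n + j))).obj L ≅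
      Coh.structureModule (thick 𝓙 (n + j))) d (fun j d => lift j d) j
  have hz : ∀ j, z (j + 1) = lift j (z j) := fun j => rfl
  refine ⟨⟨z, fun j => ?_⟩, rfl⟩
  rw [hz, hlift j (z j), Iso.trans_hom, Iso.trans_hom, Iso.app_hom, Iso.app_hom]

theorem inclusion_le (a b : ℕ) (h : b ≤ a) : 𝓙 ^ (a + 1) ≤ 𝓙 ^ (b + 1) :=
  pow_le_pow_of_le_one bot_le le_top (Nat.succ_le_succ h)

theorem quotMap_comp {a b c : W.IdealSheafData} (p : a ≤ b) (q : b ≤ c) :
    Lef.quotMap p ≫ Lef.quotMap q = Lef.quotMap (p.trans q) := by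
  rw [quotMap_eq, quotMap_eq, quotMap_eq]
  exact (pm_comp (Scheme.IdealSheafData.inclusion_subschemeι p) (Scheme.IdealSheafData.inclusion_subschemeι q)
    (by rw [Category.assoc, Scheme.IdealSheafData.inclusion_subschemeι,
      Scheme.IdealSheafData.inclusion_subschemeι])).trans (pm_congr _ _ _ _)

/-- A trivialisation system gives a formal morphism. -/
theorem TrivSys.exists_formalHom {n : ℕ} {L : W.Modules} (T : TrivSys 𝓙 n L) :
    ∃ y : ∀ m, L ⟶ ClSub.quotMod (𝓙 ^ (m + 1)), Lef.IsFormalHom 𝓙 L y ∧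
      y 0 = (Scheme.Modules.pullbackPushforwardAdjunction (kι 𝓙 (n + 0))).homEquiv _ _ (T.z 0).hom ≫
        Lef.quotMap (inclusion_le 𝓙 (n + 0) 0 (Nat.zero_le _)) := by
  refine ⟨fun m => (Scheme.Modules.pullbackPushforwardAdjunction (kι 𝓙 (n + m))).homEquiv _ _ (T.z m).hom ≫
    Lef.quotMap (inclusion_le 𝓙 (n + m) m (Nat.le_add_left m n)), fun m => ?_, rfl⟩
  show (_ ≫ _) ≫ _ = _ ≫ _
  have hs : (Scheme.Modules.pullbackPushforwardAdjunction (kι 𝓙 (n + m + 1))).homEquiv _ _ (T.z (m + 1)).hom ≫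
      Lef.quotMap (Lef.pow_succ_le 𝓙 (n + m)) =
        (Scheme.Modules.pullbackPushforwardAdjunction (kι 𝓙 (n + m))).homEquiv _ _ (T.z m).hom :=
    homEquiv_pm' (kι 𝓙 (n + m + 1)) (kι 𝓙 (n + m)) (tι 𝓙 (n + m)) (tι_kι 𝓙 (n + m)) _ _ (T.comm m)
  rw [← hs]
  simp only [Category.assoc, quotMap_comp]
  rfl

/-- On a frame the value at level zero of the formal morphism is invertible. -/
theorem TrivSys.isUnit_frame {n : ℕ} {L : W.Modules} (T : TrivSys 𝓙 n L) (hL : PicF.IsInvertible L)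
    (φ : L ⟶ Coh.structureModule W)
    (hφ : φ ≫ ClSub.toSubscheme (𝓙 ^ (0 + 1)) =
      (Scheme.Modules.pullbackPushforwardAdjunction (kι 𝓙 (n + 0))).homEquiv _ _ (T.z 0).hom ≫
        Lef.quotMap (inclusion_le 𝓙 (n + 0) 0 (Nat.zero_le _)))
    {V : W.Opens} {f : Γ(L, V)} (hf : IsFrame L V f) : IsUnit ((kι 𝓙 0).app V (φ.app V f)) := by
  have h0 : (kι 𝓙 0).app V (φ.app V f) =
      (Lef.quotMap (inclusion_le 𝓙 (n + 0) 0 (Nat.zero_le _))).app V
        ((T.z 0).hom.app (kι 𝓙 (n + 0) ⁻¹ᵁ V) (pullS (kι 𝓙 (n + 0)) L V f)) := by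
    have h := congr(Scheme.Modules.Hom.app $hφ V f)
    rw [Adjunction.homEquiv_unit] at h
    exact h
  rw [h0, quotMap_eq]
  erw [pm_app]
  refine IsUnit.map _ (IsUnit.map _ ?_)
  have hfr := (isFrame_app_iff (T.z 0).hom _).2 (isFrame_pullS (kι 𝓙 (n + 0)) hL hf)
  obtain ⟨a, ha⟩ := (hfr _ le_rfl).2 ((1 : Γ(thick 𝓙 (n + 0), kι 𝓙 (n + 0) ⁻¹ᵁ V)) :
    Γ(Coh.structureModule (thick 𝓙 (n + 0)), kι 𝓙 (n + 0) ⁻¹ᵁ V))
  simp only [res_self] at ha
  exact IsUnit.of_mul_eq_one a ((mul_comm _ _).trans ha)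

end Groth.Agent.An92.LefX
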